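import Mathlib
import Cfsg.Agent.Helper15.Quat
import Cfsg.Agent.Helper6.QD2

/-!
Helper library (helper16): central extensions of generalized quaternion groups.
* `exists_quat`: a nonabelian finite 2-group with a unique involution is `QuaternionGroup (2^k)`, `k ≥ 1`.
* `quat_data`: abstract generators and relations for a group isomorphic to `QuaternionGroup m`.
* `commutator_le_zpowers`: if `S/D` (D central) is generated like a quaternion group by the images of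
  `α, β`, then the commutator subgroup of `S` lies in the cyclic group generated by `[β, α]`.
* `central_sq`, `sq_mem_of_central`, `inv_mul_mem_of_sq`.
-/

set_option autoImplicit false

namespace Cfsg.Agent.Helper16.QuatExt

theorem huniq_of_unique {Q : Type*} [Group Q] [Finite Q] (h : ∃! x : Q, orderOf x = 2) :
    ∀ H K : Subgroup Q, Nat.card H = 2 → Nat.card K = 2 → H = K := by
  obtain ⟨x₀, hx₀, hu⟩ := h
  have key : ∀ H : Subgroup Q, Nat.card H = 2 → H = Subgroup.zpowers x₀ := by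
    intro H hH
    have hne : H ≠ ⊥ := by
      intro hb; rw [hb, Subgroup.card_bot] at hH; omega
    obtain ⟨h, hh, hh1⟩ : ∃ h ∈ H, h ≠ 1 := by
      by_contra hcon; push_neg at hcon
      exact hne ((Subgroup.eq_bot_iff_forall _).2 hcon)
    have hord : orderOf h = 2 := by
      have hd : orderOf h ∣ 2 := by
        have h1 := orderOf_dvd_natCard (⟨h, hh⟩ : H)
        rw [hH, ← Subgroup.orderOf_coe] at h1
        exact h1
      rcases (Nat.dvd_prime Nat.prime_two).1 hd with h1 | h2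
      · exact absurd (orderOf_eq_one_iff.1 h1) hh1
      · exact h2
    have hx : h = x₀ := hu h hord
    rw [hx] at hh hord
    symm
    apply Subgroup.eq_of_le_of_card_ge (Subgroup.zpowers_le.2 hh)
    rw [hH, Nat.card_zpowers, hord]
  intro H K hH hK
  rw [key H hH, key K hK]

theorem comm_of_cyclic {Q : Type*} [Group Q] (h : IsCyclic Q) (a b : Q) : a * b = b * a := by
  obtain ⟨g, hg⟩ := IsCyclic.exists_generator (α := Q)
  obtain ⟨i, rfl⟩ := Subgroup.mem_zpowers_iff.1 (hg a)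
  obtain ⟨j, rfl⟩ := Subgroup.mem_zpowers_iff.1 (hg b)
  exact zpow_mul_comm g i j

/-- a group whose elements are all of the form `A^i z` or `B A^i z` with `A, B` commuting and
`z` central is commutative -/
theorem comm_of_nf {T : Type*} [Group T] (A B : T) (hAB : A * B = B * A)
    (Z : Set T) (hZ : ∀ z ∈ Z, ∀ t : T, z * t = t * z)
    (hnf : ∀ t : T, ∃ i : ℕ, ∃ z ∈ Z, t = A ^ i * z ∨ t = B * A ^ i * z) :
    ∀ s t : T, s * t = t * s := by
  have hAB' : Commute A B := hAB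
  have h1 : ∀ q : T, Commute q A ∧ Commute q B := by
    intro q
    obtain ⟨i, z, hz, h | h⟩ := hnf q
    · rw [h]
      exact ⟨((Commute.refl A).pow_left i).mul_left (hZ z hz A),
        (hAB'.pow_left i).mul_left (hZ z hz B)⟩
    · rw [h]
      exact ⟨(hAB'.symm.mul_left ((Commute.refl A).pow_left i)).mul_left (hZ z hz A),
        ((Commute.refl B).mul_left (hAB'.pow_left i)).mul_left (hZ z hz B)⟩
  intro s t
  obtain ⟨i, z, hz, h | h⟩ := hnf t
  · rw [h]
    have hsz : Commute s z := (hZ z hz s).symm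
    exact (((h1 s).1.pow_right i).mul_right hsz).eq
  · rw [h]
    have hsz : Commute s z := (hZ z hz s).symm
    exact ((((h1 s).2).mul_right ((h1 s).1.pow_right i)).mul_right hsz).eq

theorem exists_quat {Q : Type*} [Group Q] [Finite Q] (hQ : IsPGroup 2 Q)
    (hnc : ¬ IsMulCommutative Q) (h : ∃! x : Q, orderOf x = 2) :
    ∃ k : ℕ, 1 ≤ k ∧ Nonempty (Q ≃* QuaternionGroup (2 ^ k)) := by
  rcases Cfsg.Agent.Helper15.quaternion_of_unique_involution hQ (huniq_of_unique h) with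
    hcyc | ⟨k, ⟨e⟩⟩
  · exact absurd ⟨⟨comm_of_cyclic hcyc⟩⟩ hnc
  · refine ⟨k, ?_, ⟨e⟩⟩
    by_contra hk
    have hk0 : k = 0 := by omega
    subst hk0
    apply hnc
    refine ⟨⟨fun a b => e.injective ?_⟩⟩
    rw [map_mul, map_mul]
    exact comm_of_cyclic (Q := QuaternionGroup 1) QuaternionGroup.quaternionGroup_one_isCyclic
      (e a) (e b)

theorem quat_data {Q : Type*} [Group Q] {m : ℕ} [NeZero m] (e : Q ≃* QuaternionGroup m) :
    ∃ A B : Q, A * (B * A) = B ∧ B * B = A ^ m ∧ A ^ m ≠ 1 ∧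
      (∀ q : Q, ∃ i : ℕ, q = A ^ i ∨ q = B * A ^ i) ∧ orderOf A = 2 * m := by
  haveI : NeZero (2 * m) := ⟨by have := NeZero.ne m; omega⟩
  refine ⟨e.symm (QuaternionGroup.a 1), e.symm (QuaternionGroup.xa 0), ?_, ?_, ?_, ?_, ?_⟩
  · rw [← map_mul, ← map_mul, QuaternionGroup.xa_mul_a, QuaternionGroup.a_mul_xa]; simp
  · rw [← map_mul, ← map_pow, QuaternionGroup.xa_mul_xa, QuaternionGroup.a_one_pow]; simp
  · rw [← map_pow, QuaternionGroup.a_one_pow]
    intro h
    have h1 : (QuaternionGroup.a (m : ZMod (2 * m)) : QuaternionGroup m) = 1 := by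
      have h0 := congrArg e h
      rwa [e.apply_symm_apply, map_one] at h0
    rw [QuaternionGroup.one_def] at h1
    have h2 : ((m : ℕ) : ZMod (2 * m)) = 0 := QuaternionGroup.a.inj h1
    rw [ZMod.natCast_eq_zero_iff] at h2
    have h3 := NeZero.ne m
    have h4 := Nat.le_of_dvd (by omega) h2
    omega
  · intro q
    rcases hq : e q with j | j
    · refine ⟨j.val, Or.inl ?_⟩
      rw [← map_pow, QuaternionGroup.a_one_pow, ZMod.natCast_zmod_val, ← hq, e.symm_apply_apply]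
    · refine ⟨j.val, Or.inr ?_⟩
      rw [← map_pow, ← map_mul, QuaternionGroup.a_one_pow, ZMod.natCast_zmod_val,
        QuaternionGroup.xa_mul_a, zero_add, ← hq, e.symm_apply_apply]
  · rw [MulEquiv.orderOf_eq, QuaternionGroup.orderOf_a_one]

theorem lift_nf {S : Type*} [Group S] (D : Subgroup S) [D.Normal] (α β : S)
    (hnfQ : ∀ q : S ⧸ D, ∃ i : ℕ, q = (QuotientGroup.mk α) ^ i ∨
      q = QuotientGroup.mk β * (QuotientGroup.mk α) ^ i) :
    ∀ s : S, ∃ i : ℕ, ∃ d ∈ D, s = α ^ i * d ∨ s = β * α ^ i * d := by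
  intro s
  obtain ⟨i, h | h⟩ := hnfQ (QuotientGroup.mk s)
  · refine ⟨i, (α ^ i)⁻¹ * s, ?_, Or.inl (by group)⟩
    rw [← QuotientGroup.eq, QuotientGroup.mk_pow]; exact h.symm
  · refine ⟨i, (β * α ^ i)⁻¹ * s, ?_, Or.inr (by group)⟩
    rw [← QuotientGroup.eq, QuotientGroup.mk_mul, QuotientGroup.mk_pow]; exact h.symm

theorem commutator_le_zpowers {S : Type*} [Group S] (D : Subgroup S) [D.Normal]
    (hDc : ∀ d ∈ D, ∀ s : S, d * s = s * d) (α β : S)
    (hrel : (QuotientGroup.mk α : S ⧸ D) * (QuotientGroup.mk β * QuotientGroup.mk α) =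
      QuotientGroup.mk β)
    (hnfQ : ∀ q : S ⧸ D, ∃ i : ℕ, q = (QuotientGroup.mk α) ^ i ∨
      q = QuotientGroup.mk β * (QuotientGroup.mk α) ^ i) :
    ⁅(⊤ : Subgroup S), ⊤⁆ ≤ Subgroup.zpowers (β * α * β⁻¹ * α⁻¹) := by
  have hnf := lift_nf D α β hnfQ
  obtain ⟨d₀, hd₀⟩ : ∃ d₀ : S, d₀ = β * α * β⁻¹ * α := ⟨_, rfl⟩
  have hd₀D : d₀ ∈ D := by
    rw [← QuotientGroup.eq_one_iff, hd₀]
    simp only [QuotientGroup.mk_mul, QuotientGroup.mk_inv]
    calc (QuotientGroup.mk β : S ⧸ D) * QuotientGroup.mk α * (QuotientGroup.mk β)⁻¹ *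
          QuotientGroup.mk α
        = (QuotientGroup.mk α)⁻¹ * (QuotientGroup.mk α * (QuotientGroup.mk β *
          QuotientGroup.mk α)) * (QuotientGroup.mk β)⁻¹ * QuotientGroup.mk α := by group
      _ = 1 := by rw [hrel]; group
  have hd₀c : ∀ s : S, d₀ * s = s * d₀ := hDc d₀ hd₀D
  obtain ⟨γ, hγ⟩ : ∃ γ : S, γ = β * α * β⁻¹ * α⁻¹ := ⟨_, rfl⟩
  rw [← hγ]
  have hγ' : γ = d₀ * α⁻¹ * α⁻¹ := by rw [hγ, hd₀]; group
  have hαγ : α * γ = γ * α := by
    rw [hγ']
    calc α * (d₀ * α⁻¹ * α⁻¹) = (α * d₀) * α⁻¹ * α⁻¹ := by group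
      _ = (d₀ * α) * α⁻¹ * α⁻¹ := by rw [hd₀c α]
      _ = d₀ * α⁻¹ * α⁻¹ * α := by group
  have hβγ : β * γ * β⁻¹ = γ⁻¹ := by
    have hu : β * α * β⁻¹ = d₀ * α⁻¹ := by rw [hd₀]; group
    have h1 : β * d₀ * β⁻¹ = d₀ := by
      calc β * d₀ * β⁻¹ = (d₀ * β) * β⁻¹ := by rw [hd₀c β]
        _ = d₀ := by group
    calc β * γ * β⁻¹ = (β * d₀ * β⁻¹) * (β * α * β⁻¹)⁻¹ * (β * α * β⁻¹)⁻¹ := by
          rw [hγ']; group
      _ = d₀ * (d₀ * α⁻¹)⁻¹ * (d₀ * α⁻¹)⁻¹ := by rw [h1, hu]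
      _ = (d₀ * α) * d₀⁻¹ * α * d₀⁻¹ := by group
      _ = (α * d₀) * d₀⁻¹ * α * d₀⁻¹ := by rw [hd₀c α]
      _ = (d₀ * α⁻¹ * α⁻¹)⁻¹ := by simp [mul_assoc]
      _ = γ⁻¹ := by rw [hγ']
  have hpow : ∀ i : ℕ, α ^ i * γ = γ * α ^ i := fun i =>
    ((show Commute α γ from hαγ).pow_left i).eq
  have hconj : ∀ s : S, s * γ * s⁻¹ = γ ∨ s * γ * s⁻¹ = γ⁻¹ := by
    intro s
    obtain ⟨i, d, hd, h | h⟩ := hnf s
    · left
      rw [h]
      calc α ^ i * d * γ * (α ^ i * d)⁻¹ = α ^ i * (d * γ) * d⁻¹ * (α ^ i)⁻¹ := by group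
        _ = α ^ i * (γ * d) * d⁻¹ * (α ^ i)⁻¹ := by rw [hDc d hd γ]
        _ = (α ^ i * γ) * (α ^ i)⁻¹ := by group
        _ = γ * α ^ i * (α ^ i)⁻¹ := by rw [hpow i]
        _ = γ := by group
    · right
      rw [h]
      calc β * α ^ i * d * γ * (β * α ^ i * d)⁻¹
          = β * (α ^ i * (d * γ) * d⁻¹ * (α ^ i)⁻¹) * β⁻¹ := by group
        _ = β * (α ^ i * (γ * d) * d⁻¹ * (α ^ i)⁻¹) * β⁻¹ := by rw [hDc d hd γ]
        _ = β * ((α ^ i * γ) * (α ^ i)⁻¹) * β⁻¹ := by group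
        _ = β * (γ * α ^ i * (α ^ i)⁻¹) * β⁻¹ := by rw [hpow i]
        _ = β * γ * β⁻¹ := by group
        _ = γ⁻¹ := hβγ
  have hNn : (Subgroup.zpowers γ).Normal := by
    refine ⟨fun x hx g => ?_⟩
    obtain ⟨j, rfl⟩ := Subgroup.mem_zpowers_iff.1 hx
    rw [← conj_zpow]
    rcases hconj g with h | h
    · rw [h]; exact Subgroup.zpow_mem _ (Subgroup.mem_zpowers γ) j
    · rw [h]; exact Subgroup.zpow_mem _ (Subgroup.inv_mem _ (Subgroup.mem_zpowers γ)) j
  have hcomm : ∀ s t : S ⧸ Subgroup.zpowers γ, s * t = t * s := by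
    refine comm_of_nf (QuotientGroup.mk α) (QuotientGroup.mk β) ?_
      {z | ∃ d ∈ D, z = QuotientGroup.mk d} ?_ ?_
    · have h1 : (QuotientGroup.mk (β * α * β⁻¹ * α⁻¹) : S ⧸ Subgroup.zpowers γ) = 1 :=
        (QuotientGroup.eq_one_iff _).2 (by rw [← hγ]; exact Subgroup.mem_zpowers γ)
      simp only [QuotientGroup.mk_mul, QuotientGroup.mk_inv] at h1
      calc (QuotientGroup.mk α : S ⧸ Subgroup.zpowers γ) * QuotientGroup.mk β
          = (QuotientGroup.mk β * QuotientGroup.mk α * (QuotientGroup.mk β)⁻¹ *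
            (QuotientGroup.mk α)⁻¹)⁻¹ * (QuotientGroup.mk β * QuotientGroup.mk α) := by group
        _ = QuotientGroup.mk β * QuotientGroup.mk α := by rw [h1]; group
    · rintro z ⟨d, hd, rfl⟩ t
      obtain ⟨t', rfl⟩ := QuotientGroup.mk_surjective t
      rw [← QuotientGroup.mk_mul, ← QuotientGroup.mk_mul, hDc d hd t']
    · intro t
      obtain ⟨t', rfl⟩ := QuotientGroup.mk_surjective t
      obtain ⟨i, d, hd, h | h⟩ := hnf t'
      · exact ⟨i, QuotientGroup.mk d, ⟨d, hd, rfl⟩,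
          Or.inl (by rw [h, QuotientGroup.mk_mul, QuotientGroup.mk_pow])⟩
      · exact ⟨i, QuotientGroup.mk d, ⟨d, hd, rfl⟩,
          Or.inr (by rw [h, QuotientGroup.mk_mul, QuotientGroup.mk_mul, QuotientGroup.mk_pow])⟩
  rw [Subgroup.commutator_le]
  intro g₁ _ g₂ _
  rw [commutatorElement_def, ← QuotientGroup.eq_one_iff]
  simp only [QuotientGroup.mk_mul, QuotientGroup.mk_inv]
  rw [hcomm (QuotientGroup.mk g₁) (QuotientGroup.mk g₂)]
  group

/-- In a nonabelian finite 2-group with a unique involution, central elements square to 1. -/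
theorem central_sq {Q : Type*} [Group Q] [Finite Q] (hQ : IsPGroup 2 Q)
    (hnc : ¬ IsMulCommutative Q) (h : ∃! x : Q, orderOf x = 2) (q : Q)
    (hq : ∀ t : Q, q * t = t * q) : q * q = 1 := by
  obtain ⟨k, -, ⟨e⟩⟩ := exists_quat hQ hnc h
  haveI : NeZero (2 ^ k) := ⟨by positivity⟩
  obtain ⟨A, B, d1, d2, d3, d4, d5⟩ := quat_data e
  have hBA : B * A * B⁻¹ = A⁻¹ := by
    calc B * A * B⁻¹ = A⁻¹ * (A * (B * A)) * B⁻¹ := by group
      _ = A⁻¹ := by rw [d1]; group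
  obtain ⟨i, h1 | h1⟩ := d4 q
  · have h2 : B * q * B⁻¹ = q⁻¹ := by rw [h1, ← conj_pow, hBA, inv_pow]
    have h3 : B * q * B⁻¹ = q := by
      calc B * q * B⁻¹ = (q * B) * B⁻¹ := by rw [hq B]
        _ = q := by group
    rw [h3] at h2
    calc q * q = q * q⁻¹ := by rw [← h2]
      _ = 1 := mul_inv_cancel q
  · exfalso
    apply hnc
    have hAB : A * B = B * A := by
      have h2 := hq A
      rw [h1] at h2
      have h3 : B * A * A ^ i = A * B * A ^ i := by
        calc B * A * A ^ i = B * (A ^ i * A) := by rw [pow_mul_comm', mul_assoc]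
          _ = B * A ^ i * A := by rw [mul_assoc]
          _ = A * (B * A ^ i) := h2
          _ = A * B * A ^ i := by rw [mul_assoc]
      exact (mul_right_cancel h3).symm
    refine ⟨⟨comm_of_nf A B hAB {1}
      (fun z hz t => by rw [Set.mem_singleton_iff.1 hz, one_mul, mul_one]) (fun t => ?_)⟩⟩
    obtain ⟨j, h | h⟩ := d4 t
    · exact ⟨j, 1, rfl, Or.inl (by rw [h, mul_one])⟩
    · exact ⟨j, 1, rfl, Or.inr (by rw [h, mul_one])⟩

theorem sq_mem_of_central {S : Type*} [Group S] [Finite S] (hS : IsPGroup 2 S) (D : Subgroup S)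
    [D.Normal] (hnc : ¬ IsMulCommutative (S ⧸ D)) (hu : ∃! x : S ⧸ D, orderOf x = 2)
    (t : S) (ht : ∀ s, t * s = s * t) : t * t ∈ D := by
  rw [← QuotientGroup.eq_one_iff, QuotientGroup.mk_mul]
  apply central_sq (hS.to_quotient D) hnc hu
  intro q
  obtain ⟨s, rfl⟩ := QuotientGroup.mk_surjective q
  rw [← QuotientGroup.mk_mul, ← QuotientGroup.mk_mul, ht s]

theorem inv_mul_mem_of_sq {S : Type*} [Group S] (D : Subgroup S) [D.Normal]
    (hu : ∃! x : S ⧸ D, orderOf x = 2) (t t' : S) (ht : t * t ∈ D) (ht' : t' * t' ∈ D)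
    (htD : t ∉ D) (ht'D : t' ∉ D) : t⁻¹ * t' ∈ D := by
  haveI : Fact (Nat.Prime 2) := ⟨Nat.prime_two⟩
  obtain ⟨z, hz, hzu⟩ := hu
  have key : ∀ s : S, s * s ∈ D → s ∉ D → (QuotientGroup.mk s : S ⧸ D) = z := by
    intro s hs hsD
    apply hzu
    rw [orderOf_eq_prime_iff]
    refine ⟨?_, fun h => hsD ((QuotientGroup.eq_one_iff s).1 h)⟩
    rw [pow_two, ← QuotientGroup.mk_mul]
    exact (QuotientGroup.eq_one_iff _).2 hs
  rw [← QuotientGroup.eq, key t ht htD, key t' ht' ht'D]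

end Cfsg.Agent.Helper16.QuatExt
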