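import Mathlib
import Cfsg.Agent.S0766

set_option autoImplicit false

namespace Cfsg.Agent.Helper16.SympInv

section gen
variable {F V : Type*} [Field F] [AddCommGroup V] [Module F V]

/-- Nondegeneracy of `B` restricted to `P`. -/
def ND (B : LinearMap.BilinForm F V) (P : Submodule F V) : Prop :=
  ∀ u ∈ P, u ≠ 0 → ∃ v ∈ P, B u v ≠ 0

theorem skew {B : LinearMap.BilinForm F V} (hB : B.IsAlt) (a b : V) : B a b = -B b a :=
  (hB.neg_eq b a).symm

theorem split_pair [FiniteDimensional F V] (B : LinearMap.BilinForm F V) (hB : B.IsAlt)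
    (P : Submodule F V) (v v' : V) (hv : v ∈ P) (hv' : v' ∈ P) (hγ : B v v' ≠ 0) :
    ∃ P' : Submodule F V, (∀ p, p ∈ P' ↔ p ∈ P ∧ B p v = 0 ∧ B p v' = 0) ∧
      (∀ p ∈ P, ∃ α β : F, ∃ p' ∈ P', p = α • v + β • v' + p') ∧
      Module.finrank F P' < Module.finrank F P ∧
      (ND B P → ND B P') := by
  have hmem : ∀ p, p ∈ P ⊓ (LinearMap.ker (LinearMap.flip B v) ⊓ LinearMap.ker (LinearMap.flip B v')) ↔
      p ∈ P ∧ B p v = 0 ∧ B p v' = 0 := by
    intro p
    simp only [Submodule.mem_inf, LinearMap.mem_ker, LinearMap.flip_apply]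
  have hdec : ∀ p ∈ P, ∃ α β : F,
      ∃ p' ∈ P ⊓ (LinearMap.ker (LinearMap.flip B v) ⊓ LinearMap.ker (LinearMap.flip B v')),
      p = α • v + β • v' + p' := by
    intro p hp
    refine ⟨B p v' / B v v', -(B p v / B v v'),
      p - (B p v' / B v v') • v - (-(B p v / B v v')) • v', ?_, ?_⟩
    · rw [hmem]
      refine ⟨P.sub_mem (P.sub_mem hp (P.smul_mem _ hv)) (P.smul_mem _ hv'), ?_, ?_⟩
      · have h1 : B (p - (B p v' / B v v') • v - (-(B p v / B v v')) • v') v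
            = B p v - (B p v' / B v v') * B v v - (-(B p v / B v v')) * B v' v := by
          simp only [map_sub, map_smul, LinearMap.sub_apply, LinearMap.smul_apply, smul_eq_mul]
        rw [h1, hB.self_eq_zero, skew hB v' v]
        linear_combination (-1 : F) * div_mul_cancel₀ (B p v) hγ
      · have h1 : B (p - (B p v' / B v v') • v - (-(B p v / B v v')) • v') v'
            = B p v' - (B p v' / B v v') * B v v' - (-(B p v / B v v')) * B v' v' := by
          simp only [map_sub, map_smul, LinearMap.sub_apply, LinearMap.smul_apply, smul_eq_mul]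
        rw [h1, hB.self_eq_zero]
        linear_combination (-1 : F) * div_mul_cancel₀ (B p v') hγ
    · abel
  have hlt : P ⊓ (LinearMap.ker (LinearMap.flip B v) ⊓ LinearMap.ker (LinearMap.flip B v')) < P := by
    rw [SetLike.lt_iff_le_and_exists]
    exact ⟨inf_le_left, v, hv, fun h => hγ ((hmem v).1 h).2.2⟩
  refine ⟨P ⊓ (LinearMap.ker (LinearMap.flip B v) ⊓ LinearMap.ker (LinearMap.flip B v')), hmem, hdec,
    Submodule.finrank_lt_finrank_of_lt hlt, ?_⟩
  intro hND u hu hu0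
  obtain ⟨hu1, hu2, hu3⟩ := (hmem u).1 hu
  obtain ⟨w, hw, hw0⟩ := hND u hu1 hu0
  obtain ⟨α, β, w', hw', rfl⟩ := hdec w hw
  refine ⟨w', hw', ?_⟩
  intro h0
  apply hw0
  rw [map_add, map_add, map_smul, map_smul, hu2, hu3, h0]
  simp

/-- The structure produced: hyperbolic pairs `(e i, e' i)`, permuted by `T` according to `π`. -/
def Concl (B : LinearMap.BilinForm F V) (T : V →ₗ[F] V) (P : Submodule F V) : Prop :=
  ∃ (ι : Type) (_ : Fintype ι) (e e' : ι → V) (π : ι → ι) (τ : ι → Bool),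
    (∀ i, π (π i) = i) ∧ (∀ i, e i ∈ P ∧ e' i ∈ P) ∧ (∀ i, B (e i) (e' i) ≠ 0) ∧
    (∀ i k, i ≠ k → B (e i) (e k) = 0 ∧ B (e i) (e' k) = 0 ∧ B (e' i) (e k) = 0 ∧
      B (e' i) (e' k) = 0) ∧
    (∀ p ∈ P, p ∈ Submodule.span F (Set.range e ∪ Set.range e')) ∧
    (∀ i, τ i = true → π i = i ∧ T (e i) = e' i) ∧
    (∀ i, τ i = false → T (e i) ∈ Submodule.span F {e (π i)} ∧
      T (e' i) ∈ Submodule.span F {e' (π i)}) ∧
    ((∀ Q : Submodule F V, (∀ v ∈ Q, T v ∈ Q) → ND B Q → Q ≠ ⊥ → ∃ v ∈ Q, B v (T v) ≠ 0) →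
      ∀ i, τ i = true)

theorem ext1 [FiniteDimensional F V] (B : LinearMap.BilinForm F V) (hB : B.IsAlt)
    (T : V →ₗ[F] V) (hTB : ∀ u v, B (T u) (T v) = B u v) (z : F) (hz : z ≠ 0)
    (hTT : ∀ v, T (T v) = z • v)
    (P : Submodule F V) (hP : ∀ v ∈ P, T v ∈ P) (hND : ND B P)
    (hrec : ∀ P' : Submodule F V, (∀ v ∈ P', T v ∈ P') → ND B P' →
      Module.finrank F P' < Module.finrank F P → Concl B T P')
    (v v' : V) (hv : v ∈ P) (hv' : v' ∈ P) (hγ : B v v' ≠ 0)
    (hTv : T v ∈ Submodule.span F {v, v'}) (hTv' : T v' ∈ Submodule.span F {v, v'})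
    (τ₀ : Bool) (hS : τ₀ = true → T v = v')
    (hF : τ₀ = false → T v ∈ Submodule.span F {v} ∧ T v' ∈ Submodule.span F {v'})
    (hcl : (∀ Q : Submodule F V, (∀ v ∈ Q, T v ∈ Q) → ND B Q → Q ≠ ⊥ →
      ∃ v ∈ Q, B v (T v) ≠ 0) → τ₀ = true) :
    Concl B T P := by
  obtain ⟨P', hmem, hdec, hlt, hND'⟩ := split_pair B hB P v v' hv hv' hγ
  have hHp : ∀ p ∈ P', ∀ h ∈ Submodule.span F {v, v'}, B p h = 0 := by
    intro p hp h hh
    obtain ⟨hp1, hp2, hp3⟩ := (hmem p).1 hp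
    obtain ⟨a, b, rfl⟩ := Submodule.mem_span_pair.1 hh
    rw [map_add, map_smul, map_smul, hp2, hp3]
    simp
  have hTinv : ∀ y, y = T (z⁻¹ • T y) := by
    intro y
    rw [map_smul, hTT, smul_smul, inv_mul_cancel₀ hz, one_smul]
  have hP' : ∀ p ∈ P', T p ∈ P' := by
    intro p hp
    obtain ⟨hp1, hp2, hp3⟩ := (hmem p).1 hp
    rw [hmem]
    refine ⟨hP p hp1, ?_, ?_⟩
    · rw [hTinv v, hTB]
      exact hHp p hp _ (Submodule.smul_mem _ _ hTv)
    · rw [hTinv v', hTB]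
      exact hHp p hp _ (Submodule.smul_mem _ _ hTv')
  obtain ⟨ι, hι, e, e', π, τ, c1, c2, c3, c4, c5, c6, c7, c8⟩ := hrec P' hP' (hND' hND) hlt
  have := hι
  have hz1 : ∀ p ∈ P', (B p v = 0 ∧ B p v' = 0) ∧ (B v p = 0 ∧ B v' p = 0) := by
    intro p hp
    obtain ⟨hp1, hp2, hp3⟩ := (hmem p).1 hp
    refine ⟨⟨hp2, hp3⟩, ?_, ?_⟩
    · rw [skew hB v p, hp2, neg_zero]
    · rw [skew hB v' p, hp3, neg_zero]
  refine ⟨Unit ⊕ ι, inferInstance, Sum.elim (fun _ => v) e, Sum.elim (fun _ => v') e',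
    Sum.map id π, Sum.elim (fun _ => τ₀) τ, ?_, ?_, ?_, ?_, ?_, ?_, ?_, ?_⟩
  · rintro (s | i)
    · rfl
    · show Sum.inr (π (π i)) = Sum.inr i
      rw [c1]
  · rintro (s | i)
    · exact ⟨hv, hv'⟩
    · exact ⟨((hmem _).1 (c2 i).1).1, ((hmem _).1 (c2 i).2).1⟩
  · rintro (s | i)
    · exact hγ
    · exact c3 i
  · rintro (s | i) (s' | k) hik
    · exact absurd (congrArg Sum.inl (Subsingleton.elim s s')) hik
    · exact ⟨(hz1 (e k) (c2 k).1).2.1, (hz1 (e' k) (c2 k).2).2.1,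
        (hz1 (e k) (c2 k).1).2.2, (hz1 (e' k) (c2 k).2).2.2⟩
    · exact ⟨(hz1 (e i) (c2 i).1).1.1, (hz1 (e i) (c2 i).1).1.2,
        (hz1 (e' i) (c2 i).2).1.1, (hz1 (e' i) (c2 i).2).1.2⟩
    · exact c4 i k (fun h => hik (congrArg Sum.inr h))
  · intro p hp
    obtain ⟨α, β, p', hp', rfl⟩ := hdec p hp
    have hle : Submodule.span F (Set.range e ∪ Set.range e') ≤
        Submodule.span F (Set.range (Sum.elim (fun _ : Unit => v) e) ∪
          Set.range (Sum.elim (fun _ : Unit => v') e')) := by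
      refine Submodule.span_mono ?_
      rintro x (⟨i, rfl⟩ | ⟨i, rfl⟩)
      · exact Or.inl ⟨Sum.inr i, rfl⟩
      · exact Or.inr ⟨Sum.inr i, rfl⟩
    refine Submodule.add_mem _ (Submodule.add_mem _ (Submodule.smul_mem _ _ ?_)
      (Submodule.smul_mem _ _ ?_)) (hle (c5 p' hp'))
    · exact Submodule.subset_span (Or.inl ⟨Sum.inl (), rfl⟩)
    · exact Submodule.subset_span (Or.inr ⟨Sum.inl (), rfl⟩)
  · rintro (s | i) h
    · exact ⟨rfl, hS h⟩
    · exact ⟨congrArg Sum.inr (c6 i h).1, (c6 i h).2⟩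
  · rintro (s | i) h
    · exact hF h
    · exact c7 i h
  · intro hAll
    rintro (s | i)
    · exact hcl hAll
    · exact c8 hAll i

theorem ext2 [FiniteDimensional F V] (B : LinearMap.BilinForm F V) (hB : B.IsAlt)
    (T : V →ₗ[F] V) (hTB : ∀ u v, B (T u) (T v) = B u v) (z : F) (hz : z ≠ 0)
    (hTT : ∀ v, T (T v) = z • v)
    (P : Submodule F V) (hP : ∀ v ∈ P, T v ∈ P) (hND : ND B P)
    (hrec : ∀ P' : Submodule F V, (∀ v ∈ P', T v ∈ P') → ND B P' →
      Module.finrank F P' < Module.finrank F P → Concl B T P')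
    (u w : V) (hu : u ∈ P) (hw : w ∈ P) (hγ : B u w ≠ 0)
    (h1 : B u (T u) = 0) (h2 : B u (T w) = 0) (h3 : B w (T u) = 0) (h4 : B w (T w) = 0)
    (hcl : (∀ Q : Submodule F V, (∀ v ∈ Q, T v ∈ Q) → ND B Q → Q ≠ ⊥ →
      ∃ v ∈ Q, B v (T v) ≠ 0) → False) :
    Concl B T P := by
  obtain ⟨P₁, hmem₁, hdec₁, hlt₁, hND₁⟩ := split_pair B hB P u w hu hw hγ
  have hTu₁ : T u ∈ P₁ := by
    rw [hmem₁]
    exact ⟨hP u hu, by rw [skew hB (T u) u, h1, neg_zero], by rw [skew hB (T u) w, h3, neg_zero]⟩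
  have hTw₁ : T w ∈ P₁ := by
    rw [hmem₁]
    exact ⟨hP w hw, by rw [skew hB (T w) u, h2, neg_zero], by rw [skew hB (T w) w, h4, neg_zero]⟩
  have hγ' : B (T u) (T w) ≠ 0 := by rw [hTB]; exact hγ
  obtain ⟨P₂, hmem₂, hdec₂, hlt₂, hND₂⟩ := split_pair B hB P₁ (T u) (T w) hTu₁ hTw₁ hγ'
  have hmem : ∀ p, p ∈ P₂ ↔ p ∈ P ∧ B p u = 0 ∧ B p w = 0 ∧ B p (T u) = 0 ∧ B p (T w) = 0 := by
    intro p
    rw [hmem₂, hmem₁]
    tauto
  have hTinv : ∀ y, y = T (z⁻¹ • T y) := by
    intro y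
    rw [map_smul, hTT, smul_smul, inv_mul_cancel₀ hz, one_smul]
  have hP₂ : ∀ p ∈ P₂, T p ∈ P₂ := by
    intro p hp
    obtain ⟨hp0, hp1, hp2, hp3, hp4⟩ := (hmem p).1 hp
    rw [hmem]
    refine ⟨hP p hp0, ?_, ?_, ?_, ?_⟩
    · rw [hTinv u, hTB, map_smul, hp3, smul_zero]
    · rw [hTinv w, hTB, map_smul, hp4, smul_zero]
    · rw [hTB]; exact hp1
    · rw [hTB]; exact hp2
  have hlt : Module.finrank F P₂ < Module.finrank F P := lt_trans hlt₂ hlt₁
  obtain ⟨ι, hι, e, e', π, τ, c1, c2, c3, c4, c5, c6, c7, c8⟩ :=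
    hrec P₂ hP₂ (hND₂ (hND₁ hND)) hlt
  have := hι
  have hz2 : ∀ p ∈ P₂, (B p u = 0 ∧ B p w = 0 ∧ B p (T u) = 0 ∧ B p (T w) = 0) ∧
      (B u p = 0 ∧ B w p = 0 ∧ B (T u) p = 0 ∧ B (T w) p = 0) := by
    intro p hp
    obtain ⟨hp0, hp1, hp2, hp3, hp4⟩ := (hmem p).1 hp
    refine ⟨⟨hp1, hp2, hp3, hp4⟩, ?_, ?_, ?_, ?_⟩
    · rw [skew hB u p, hp1, neg_zero]
    · rw [skew hB w p, hp2, neg_zero]
    · rw [skew hB (T u) p, hp3, neg_zero]
    · rw [skew hB (T w) p, hp4, neg_zero]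
  refine ⟨Bool ⊕ ι, inferInstance, Sum.elim (fun s => cond s (T u) u) e,
    Sum.elim (fun s => cond s (T w) w) e', Sum.map not π, Sum.elim (fun _ => false) τ,
    ?_, ?_, ?_, ?_, ?_, ?_, ?_, ?_⟩
  · rintro (s | i)
    · show Sum.inl (!(!s)) = Sum.inl s
      rw [Bool.not_not]
    · show Sum.inr (π (π i)) = Sum.inr i
      rw [c1]
  · rintro (s | i)
    · cases s
      · exact ⟨hu, hw⟩
      · exact ⟨hP u hu, hP w hw⟩
    · exact ⟨((hmem _).1 (c2 i).1).1, ((hmem _).1 (c2 i).2).1⟩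
  · rintro (s | i)
    · cases s
      · exact hγ
      · exact hγ'
    · exact c3 i
  · rintro (s | i) (s' | k) hik
    · cases s <;> cases s'
      · exact absurd rfl hik
      · exact ⟨h1, h2, h3, h4⟩
      · refine ⟨?_, ?_, ?_, ?_⟩
        · show B (T u) u = 0
          rw [skew hB (T u) u, h1, neg_zero]
        · show B (T u) w = 0
          rw [skew hB (T u) w, h3, neg_zero]
        · show B (T w) u = 0
          rw [skew hB (T w) u, h2, neg_zero]
        · show B (T w) w = 0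
          rw [skew hB (T w) w, h4, neg_zero]
      · exact absurd rfl hik
    · cases s
      · exact ⟨(hz2 (e k) (c2 k).1).2.1, (hz2 (e' k) (c2 k).2).2.1,
          (hz2 (e k) (c2 k).1).2.2.1, (hz2 (e' k) (c2 k).2).2.2.1⟩
      · exact ⟨(hz2 (e k) (c2 k).1).2.2.2.1, (hz2 (e' k) (c2 k).2).2.2.2.1,
          (hz2 (e k) (c2 k).1).2.2.2.2, (hz2 (e' k) (c2 k).2).2.2.2.2⟩
    · cases s'
      · exact ⟨(hz2 (e i) (c2 i).1).1.1, (hz2 (e i) (c2 i).1).1.2.1,
          (hz2 (e' i) (c2 i).2).1.1, (hz2 (e' i) (c2 i).2).1.2.1⟩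
      · exact ⟨(hz2 (e i) (c2 i).1).1.2.2.1, (hz2 (e i) (c2 i).1).1.2.2.2,
          (hz2 (e' i) (c2 i).2).1.2.2.1, (hz2 (e' i) (c2 i).2).1.2.2.2⟩
    · exact c4 i k (fun h => hik (congrArg Sum.inr h))
  · intro p hp
    obtain ⟨α, β, p₁, hp₁, rfl⟩ := hdec₁ p hp
    obtain ⟨α', β', p₂, hp₂, rfl⟩ := hdec₂ p₁ hp₁
    have hle : Submodule.span F (Set.range e ∪ Set.range e') ≤
        Submodule.span F (Set.range (Sum.elim (fun s : Bool => cond s (T u) u) e) ∪
          Set.range (Sum.elim (fun s : Bool => cond s (T w) w) e')) := by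
      refine Submodule.span_mono ?_
      rintro x (⟨i, rfl⟩ | ⟨i, rfl⟩)
      · exact Or.inl ⟨Sum.inr i, rfl⟩
      · exact Or.inr ⟨Sum.inr i, rfl⟩
    refine Submodule.add_mem _ (Submodule.add_mem _ (Submodule.smul_mem _ _ ?_)
      (Submodule.smul_mem _ _ ?_)) (Submodule.add_mem _ (Submodule.add_mem _
      (Submodule.smul_mem _ _ ?_) (Submodule.smul_mem _ _ ?_)) (hle (c5 p₂ hp₂)))
    · exact Submodule.subset_span (Or.inl ⟨Sum.inl false, rfl⟩)
    · exact Submodule.subset_span (Or.inr ⟨Sum.inl false, rfl⟩)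
    · exact Submodule.subset_span (Or.inl ⟨Sum.inl true, rfl⟩)
    · exact Submodule.subset_span (Or.inr ⟨Sum.inl true, rfl⟩)
  · rintro (s | i) h
    · exact absurd h Bool.false_ne_true
    · exact ⟨congrArg Sum.inr (c6 i h).1, (c6 i h).2⟩
  · rintro (s | i) h
    · cases s
      · show T u ∈ Submodule.span F {T u} ∧ T w ∈ Submodule.span F {T w}
        exact ⟨Submodule.mem_span_singleton_self _, Submodule.mem_span_singleton_self _⟩
      · show T (T u) ∈ Submodule.span F {u} ∧ T (T w) ∈ Submodule.span F {w}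
        rw [hTT, hTT]
        exact ⟨Submodule.smul_mem _ _ (Submodule.mem_span_singleton_self _),
          Submodule.smul_mem _ _ (Submodule.mem_span_singleton_self _)⟩
    · exact c7 i h
  · exact fun hAll => (hcl hAll).elim

theorem symp_struct [FiniteDimensional F V] (B : LinearMap.BilinForm F V) (hB : B.IsAlt)
    (T : V →ₗ[F] V) (z : F) (hz : z ≠ 0) (hTT : ∀ v, T (T v) = z • v)
    (hTB : ∀ u v, B (T u) (T v) = B u v) :
    ∀ (n : ℕ) (P : Submodule F V), (∀ v ∈ P, T v ∈ P) → ND B P → Module.finrank F P = n →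
      Concl B T P := by
  intro n
  induction n using Nat.strong_induction_on with
  | _ n ih =>
    intro P hP hND hn
    have hrec : ∀ P' : Submodule F V, (∀ v ∈ P', T v ∈ P') → ND B P' →
        Module.finrank F P' < Module.finrank F P → Concl B T P' := by
      intro P' h1 h2 h3
      exact ih (Module.finrank F P') (by rw [← hn]; exact h3) P' h1 h2 rfl
    by_cases hbot : P = ⊥
    · refine ⟨Empty, inferInstance, Empty.elim, Empty.elim, id, Empty.elim,
        ?_, ?_, ?_, ?_, ?_, ?_, ?_, ?_⟩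
      · exact fun i => i.elim
      · exact fun i => i.elim
      · exact fun i => i.elim
      · exact fun i => i.elim
      · intro p hp
        rw [hbot, Submodule.mem_bot] at hp
        rw [hp]
        exact Submodule.zero_mem _
      · exact fun i => i.elim
      · exact fun i => i.elim
      · exact fun _ i => i.elim
    by_cases hA : ∃ v ∈ P, B v (T v) ≠ 0
    · obtain ⟨v, hv, hvT⟩ := hA
      refine ext1 B hB T hTB z hz hTT P hP hND hrec v (T v) hv (hP v hv) hvT ?_ ?_ true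
        (fun _ => rfl) (fun h => absurd h (by simp)) (fun _ => rfl)
      · exact Submodule.subset_span (by simp)
      · rw [hTT]
        exact Submodule.smul_mem _ _ (Submodule.subset_span (by simp))
    push Not at hA
    have hcl : (∀ Q : Submodule F V, (∀ v ∈ Q, T v ∈ Q) → ND B Q → Q ≠ ⊥ →
        ∃ v ∈ Q, B v (T v) ≠ 0) → False := by
      intro hAll
      obtain ⟨v, hv, hvT⟩ := hAll P hP hND hbot
      exact hvT (hA v hv)
    by_cases hE : ∀ w ∈ P, ∃ c : F, T w = c • w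
    · obtain ⟨p₀, hp₀, hp₀0⟩ : ∃ p ∈ P, p ≠ 0 := by
        by_contra hcon
        push Not at hcon
        exact hbot ((Submodule.eq_bot_iff P).2 hcon)
      obtain ⟨r, hr, hp₀r⟩ := hND p₀ hp₀ hp₀0
      obtain ⟨c, hc⟩ := hE p₀ hp₀
      obtain ⟨c', hc'⟩ := hE r hr
      refine ext1 B hB T hTB z hz hTT P hP hND hrec p₀ r hp₀ hr hp₀r ?_ ?_ false
        (fun h => absurd h (by simp)) (fun _ => ⟨?_, ?_⟩) (fun hAll => (hcl hAll).elim)
      · rw [hc]
        exact Submodule.smul_mem _ _ (Submodule.subset_span (by simp))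
      · rw [hc']
        exact Submodule.smul_mem _ _ (Submodule.subset_span (by simp))
      · rw [hc]
        exact Submodule.smul_mem _ _ (Submodule.mem_span_singleton_self _)
      · rw [hc']
        exact Submodule.smul_mem _ _ (Submodule.mem_span_singleton_self _)
    push Not at hE
    obtain ⟨w, hw, hwne⟩ := hE
    have hex : ∃ u ∈ P, B u (T w) = 0 ∧ B u w ≠ 0 := by
      by_contra hcon
      push Not at hcon
      have hw0 : w ≠ 0 := by
        rintro rfl
        exact hwne 0 (by rw [map_zero, smul_zero])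
      have hTw0 : T w ≠ 0 := by
        intro h
        exact hwne 0 (by rw [h, zero_smul])
      obtain ⟨r, hr, hrδ⟩ := hND (T w) (hP w hw) hTw0
      have hδ : B r (T w) ≠ 0 := by
        rw [skew hB r (T w)]
        exact neg_ne_zero.2 hrδ
      obtain ⟨lam, hlam⟩ : ∃ lam : F, lam = B r w / B r (T w) := ⟨_, rfl⟩
      have hkey : ∀ u ∈ P, B u (w - lam • T w) = 0 := by
        intro u hu
        have h1 : B (u - (B u (T w) / B r (T w)) • r) (T w) = 0 := by
          rw [map_sub, map_smul, LinearMap.sub_apply, LinearMap.smul_apply, smul_eq_mul,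
            div_mul_cancel₀ _ hδ, sub_self]
        have h2 := hcon _ (P.sub_mem hu (P.smul_mem _ hr)) h1
        rw [map_sub, map_smul, LinearMap.sub_apply, LinearMap.smul_apply, smul_eq_mul] at h2
        rw [map_sub, map_smul, smul_eq_mul, hlam]
        linear_combination h2
      have hmem' : w - lam • T w ∈ P := P.sub_mem hw (P.smul_mem _ (hP w hw))
      have hzero : w - lam • T w = 0 := by
        by_contra hne
        obtain ⟨v, hv, hvne⟩ := hND _ hmem' hne
        apply hvne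
        rw [skew hB (w - lam • T w) v, hkey v hv, neg_zero]
      have hlam0 : lam ≠ 0 := by
        intro h0
        rw [h0, zero_smul, sub_zero] at hzero
        exact hw0 hzero
      apply hwne lam⁻¹
      have h3 : T w = lam⁻¹ • (lam • T w) := by
        rw [smul_smul, inv_mul_cancel₀ hlam0, one_smul]
      rw [sub_eq_zero] at hzero
      rw [← hzero] at h3
      exact h3
    obtain ⟨u, hu, huTw, huw⟩ := hex
    have h3 : B w (T u) = 0 := by
      rw [← hTB w (T u), hTT, map_smul, skew hB (T w) u, huTw, neg_zero, smul_zero]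
    exact ext2 B hB T hTB z hz hTT P hP hND hrec u w hu hw huw (hA u hu) huTw h3 (hA w hw) hcl

theorem span_pair_zero (B : LinearMap.BilinForm F V) (s s' : Set V)
    (h : ∀ a ∈ s, ∀ b ∈ s', B a b = 0) :
    ∀ u ∈ Submodule.span F s, ∀ v ∈ Submodule.span F s', B u v = 0 := by
  intro u hu v hv
  have h1 : ∀ a ∈ s, B a v = 0 := by
    intro a ha
    have hle : Submodule.span F s' ≤ LinearMap.ker (B a) := by
      rw [Submodule.span_le]
      intro b hb
      exact LinearMap.mem_ker.2 (h a ha b hb)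
    exact LinearMap.mem_ker.1 (hle hv)
  have hle : Submodule.span F s ≤ LinearMap.ker (LinearMap.flip B v) := by
    rw [Submodule.span_le]
    intro a ha
    exact LinearMap.mem_ker.2 (by rw [LinearMap.flip_apply]; exact h1 a ha)
  have h2 := LinearMap.mem_ker.1 (hle hu)
  rwa [LinearMap.flip_apply] at h2

theorem li_of_dual {κ : Type*} [Fintype κ] (B : LinearMap.BilinForm F V) (g gs : κ → V)
    (hoff : ∀ x y, x ≠ y → B (g x) (gs y) = 0) (hdiag : ∀ x, B (g x) (gs x) ≠ 0) :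
    LinearIndependent F g := by
  classical
  rw [Fintype.linearIndependent_iff]
  intro c hc k
  have h := congrArg (fun m => B m (gs k)) hc
  simp only [map_sum, map_smul, LinearMap.sum_apply, LinearMap.smul_apply, map_zero,
    LinearMap.zero_apply] at h
  rw [Finset.sum_eq_single k (fun x _ hx => by rw [hoff x k hx, smul_zero])
    (fun h => absurd (Finset.mem_univ k) h)] at h
  exact (smul_eq_zero.1 h).resolve_right (hdiag k)

end gen

theorem card_fiber_sum {ι : Type*} [Fintype ι] (q : ι → Prop) [DecidablePred q] (n : ℕ)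
    (h : (Finset.univ.filter q).card = n) [Fintype {x : ι ⊕ ι // q (Sum.elim id id x)}] :
    Fintype.card {x : ι ⊕ ι // q (Sum.elim id id x)} = n + n := by
  have e1 : {x : ι ⊕ ι // q (Sum.elim id id x)} ≃ {a : ι // q a} ⊕ {b : ι // q b} :=
    (Equiv.subtypeSum).trans (Equiv.sumCongr (Equiv.subtypeEquivRight (fun a => by simp))
      (Equiv.subtypeEquivRight (fun a => by simp)))
  exact (Fintype.card_congr e1).trans (by rw [Fintype.card_sum, Fintype.card_subtype, h])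

theorem symp_inv {F : Type*} [Field F] (d : ℕ) (x : ↥(Matrix.symplecticGroup (Fin d) F))
    (u v : Fin d ⊕ Fin d → F) :
    Cfsg.sympForm d F (Matrix.mulVec (x : Matrix (Fin d ⊕ Fin d) (Fin d ⊕ Fin d) F) u)
      (Matrix.mulVec (x : Matrix (Fin d ⊕ Fin d) (Fin d ⊕ Fin d) F) v) = Cfsg.sympForm d F u v := by
  have hx := (SymplecticGroup.mem_iff').1 x.2
  unfold Cfsg.sympForm
  rw [← Matrix.vecMul_transpose, ← Matrix.dotProduct_mulVec, Matrix.mulVec_mulVec,
    Matrix.mulVec_mulVec, hx]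

theorem setup {F : Type*} [Field F] (d : ℕ) (hd : 1 ≤ d)
    (x : ↥(Matrix.symplecticGroup (Fin d) F)) (z : F)
    (hz : ((x ^ 2 : ↥(Matrix.symplecticGroup (Fin d) F)) :
      Matrix (Fin d ⊕ Fin d) (Fin d ⊕ Fin d) F)
      = z • (1 : Matrix (Fin d ⊕ Fin d) (Fin d ⊕ Fin d) F)) :
    z * z = 1 ∧
    (∀ v, Matrix.toLin' (x : Matrix (Fin d ⊕ Fin d) (Fin d ⊕ Fin d) F)
      (Matrix.toLin' (x : Matrix (Fin d ⊕ Fin d) (Fin d ⊕ Fin d) F) v) = z • v) ∧
    (∀ u v, S0766.sB d F (Matrix.toLin' (x : Matrix (Fin d ⊕ Fin d) (Fin d ⊕ Fin d) F) u)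
      (Matrix.toLin' (x : Matrix (Fin d ⊕ Fin d) (Fin d ⊕ Fin d) F) v) = S0766.sB d F u v) ∧
    ND (S0766.sB d F) ⊤ ∧
    Function.Injective (Matrix.toLin' (x : Matrix (Fin d ⊕ Fin d) (Fin d ⊕ Fin d) F)) := by
  have hMM : (x : Matrix (Fin d ⊕ Fin d) (Fin d ⊕ Fin d) F)
      * (x : Matrix (Fin d ⊕ Fin d) (Fin d ⊕ Fin d) F)
      = z • (1 : Matrix (Fin d ⊕ Fin d) (Fin d ⊕ Fin d) F) := by
    rw [← hz, pow_two]
    rfl
  have hTT : ∀ v, Matrix.toLin' (x : Matrix (Fin d ⊕ Fin d) (Fin d ⊕ Fin d) F)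
      (Matrix.toLin' (x : Matrix (Fin d ⊕ Fin d) (Fin d ⊕ Fin d) F) v) = z • v := by
    intro v
    rw [Matrix.toLin'_apply, Matrix.toLin'_apply, Matrix.mulVec_mulVec, hMM,
      Matrix.smul_mulVec, Matrix.one_mulVec]
  have hTB : ∀ u v, S0766.sB d F
      (Matrix.toLin' (x : Matrix (Fin d ⊕ Fin d) (Fin d ⊕ Fin d) F) u)
      (Matrix.toLin' (x : Matrix (Fin d ⊕ Fin d) (Fin d ⊕ Fin d) F) v) = S0766.sB d F u v := by
    intro u v
    rw [S0766.sB_apply, S0766.sB_apply, Matrix.toLin'_apply, Matrix.toLin'_apply]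
    exact symp_inv d x u v
  have hND : ND (S0766.sB d F) ⊤ := by
    intro u _ hu
    by_contra hcon
    push Not at hcon
    exact hu ((S0766.sB_nondeg d F).1 u (fun v => hcon v Submodule.mem_top))
  have hzz : z * z = 1 := by
    have hv0 : (fun _ : Fin d ⊕ Fin d => (1 : F)) ≠ 0 := by
      intro h
      have h' := congrFun h (Sum.inl ⟨0, hd⟩)
      simp at h'
    obtain ⟨w, _, hw⟩ := hND _ Submodule.mem_top hv0
    have h1 := hTB (Matrix.toLin' (x : Matrix (Fin d ⊕ Fin d) (Fin d ⊕ Fin d) F) (fun _ => 1))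
      (Matrix.toLin' (x : Matrix (Fin d ⊕ Fin d) (Fin d ⊕ Fin d) F) w)
    rw [hTT, hTT, hTB] at h1
    simp only [map_smul, LinearMap.smul_apply, smul_eq_mul] at h1
    have h2 : (z * z - 1) * S0766.sB d F (fun _ => 1) w = 0 := by linear_combination h1
    rcases mul_eq_zero.1 h2 with h | h
    · exact sub_eq_zero.1 h
    · exact absurd h hw
  have hinj : Function.Injective
      (Matrix.toLin' (x : Matrix (Fin d ⊕ Fin d) (Fin d ⊕ Fin d) F)) := by
    rw [injective_iff_map_eq_zero]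
    intro v hv
    have h := hTT v
    rw [hv, map_zero] at h
    have hz0 : z ≠ 0 := by
      rintro rfl
      simp at hzz
    exact (smul_eq_zero.1 h.symm).resolve_left hz0
  exact ⟨hzz, hTT, hTB, hND, hinj⟩

end Cfsg.Agent.Helper16.SympInv
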