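import Mathlib
import Cfsg.Agent.Helper14.PslAdj2

namespace Cfsg.Agent.Helper16.PSpRS

open Polynomial

section helpers

variable {F V : Type*} [Field F] [AddCommGroup V] [Module F V]

theorem comm_aeval (A B : Module.End F V) (hAB : A * B = B * A) (h : F[X]) :
    A * aeval B h = aeval B h * A := by
  refine Polynomial.induction_on' h (fun p q hp hq => ?_) (fun n a => ?_)
  · rw [map_add, mul_add, add_mul, hp, hq]
  · rw [Polynomial.aeval_monomial]
    have h1 : Commute A (algebraMap F (Module.End F V) a) := (Algebra.commutes a A).symm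
    have h2 : Commute A (B ^ n) := (show Commute A B from hAB).pow_right n
    exact (h1.mul_right h2).eq

theorem inv_pow (C : Module.End F V) (U : Submodule F V) (hC : ∀ v ∈ U, C v ∈ U) (n : ℕ) :
    ∀ v ∈ U, (C ^ n) v ∈ U := by
  induction n with
  | zero => intro v hv; simpa using hv
  | succ k ih =>
    intro v hv
    rw [pow_succ C k, Module.End.mul_apply]
    exact ih _ (hC v hv)

theorem inv_aeval (C : Module.End F V) (U : Submodule F V) (hC : ∀ v ∈ U, C v ∈ U)
    (g : F[X]) : ∀ v ∈ U, aeval C g v ∈ U := by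
  refine Polynomial.induction_on' g (fun p q hp hq => ?_) (fun n a => ?_)
  · intro v hv
    rw [map_add, LinearMap.add_apply]
    exact U.add_mem (hp v hv) (hq v hv)
  · intro v hv
    rw [Polynomial.aeval_monomial, Module.End.mul_apply, Module.algebraMap_end_apply]
    exact U.smul_mem a (inv_pow C U hC n v hv)

theorem adj_pow (f : LinearMap.BilinForm F V) (B B' : Module.End F V)
    (hadj : ∀ x y, f x (B y) = f (B' x) y) (n : ℕ) :
    ∀ x y, f x ((B ^ n) y) = f ((B' ^ n) x) y := by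
  induction n with
  | zero => intro x y; simp
  | succ k ih =>
    intro x y
    rw [pow_succ B k, Module.End.mul_apply, ih, hadj, pow_succ' B' k, Module.End.mul_apply]

theorem adj_aeval (f : LinearMap.BilinForm F V) (B B' : Module.End F V)
    (hadj : ∀ x y, f x (B y) = f (B' x) y) (g : F[X]) :
    ∀ x y, f x (aeval B g y) = f (aeval B' g x) y := by
  refine Polynomial.induction_on' g (fun p q hp hq => ?_) (fun n a => ?_)
  · intro x y
    simp only [map_add, LinearMap.add_apply]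
    rw [hp, hq]
  · intro x y
    simp only [Polynomial.aeval_monomial, Module.End.mul_apply, Module.algebraMap_end_apply,
      map_smul, LinearMap.smul_apply, adj_pow f B B' hadj n]

end helpers

theorem x1 {F V : Type*} [Field F] [Fintype F] [AddCommGroup V] [Module F V] [Finite V] (f : LinearMap.BilinForm F V) (halt : ∀ v, f v v = 0) (hnd : ∀ v, (∀ w, f v w = 0) → v = 0) (r s : ℕ) [Fact r.Prime] [Fact s.Prime] (hrq : ¬ r ∣ Fintype.card F) (hsq : ¬ s ∣ Fintype.card F) (A B : Module.End F V) (hAf : ∀ u v, f (A u) (A v) = f u v) (hBf : ∀ u v, f (B u) (B v) = f u v) (hA : A ^ r = 1) (hB : B ^ s = 1) (hAB : A * B = B * A) (hker : LinearMap.ker (A - 1) = LinearMap.ker (B - 1)) (m : ℕ) (hm : 0 < m) (hl : orderOf ((Fintype.card F : ℕ) : ZMod s) = 2 * m) (hdim : Module.finrank F ↥(LinearMap.ker (B - 1)) + 2 * m = Module.finrank F V) : r ∣ Fintype.card F ^ m + 1 := by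
  classical
  by_contra hcon
  have hrP : r.Prime := Fact.out
  have hsP : s.Prime := Fact.out
  obtain ⟨q, hq⟩ : ∃ q : ℕ, q = Fintype.card F := ⟨_, rfl⟩
  rw [← hq] at hcon
  have hsq' : ¬ s ∣ q := by rw [hq]; exact hsq
  have hl' : orderOf ((q : ℕ) : ZMod s) = 2 * m := by rw [hq]; exact hl
  have hqF : ((q : ℕ) : F) = 0 := by rw [hq]; exact Nat.cast_card_eq_zero F
  have hsF : ((s : ℕ) : F) ≠ 0 := by
    intro h0
    have hcop : Nat.Coprime s q := (Nat.Prime.coprime_iff_not_dvd hsP).2 hsq'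
    have hg : Nat.gcd s q = 1 := hcop
    have hbez := Nat.gcd_eq_gcd_ab s q
    rw [hg] at hbez
    have h1 := congrArg (Int.cast : ℤ → F) hbez
    push_cast at h1
    rw [h0, hqF] at h1
    simp at h1
  obtain ⟨E, hE⟩ : ∃ E : Submodule F V, E = LinearMap.ker (B - 1) := ⟨_, rfl⟩
  obtain ⟨U, hU⟩ : ∃ U : Submodule F V, U = LinearMap.range (B - 1) := ⟨_, rfl⟩
  have hEmem : ∀ v, v ∈ E ↔ B v = v := by
    intro v
    rw [hE, LinearMap.mem_ker, LinearMap.sub_apply, Module.End.one_apply, sub_eq_zero]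
  have hEA : ∀ v, v ∈ E ↔ A v = v := by
    intro v
    rw [hE, ← hker, LinearMap.mem_ker, LinearMap.sub_apply, Module.End.one_apply, sub_eq_zero]
  have hUmem : ∀ v, v ∈ U ↔ ∃ w, B w - w = v := by
    intro v
    simp only [hU, LinearMap.mem_range, LinearMap.sub_apply, Module.End.one_apply]
  have hUB : ∀ v ∈ U, B v ∈ U := by
    intro v hv
    obtain ⟨w, rfl⟩ := (hUmem v).1 hv
    exact (hUmem _).2 ⟨B w, by rw [map_sub]⟩
  have hABv : ∀ v, A (B v) = B (A v) := by
    intro v
    have h : (A * B) v = (B * A) v := by rw [hAB]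
    simpa only [Module.End.mul_apply] using h
  have hUA : ∀ v ∈ U, A v ∈ U := by
    intro v hv
    obtain ⟨w, rfl⟩ := (hUmem v).1 hv
    exact (hUmem _).2 ⟨A w, by rw [map_sub, hABv]⟩
  have hT : (∑ i ∈ Finset.range s, B ^ i) * (B - 1) = 0 := by
    rw [geom_sum_mul, hB, sub_self]
  have hBpow : ∀ i : ℕ, ∀ v ∈ E, (B ^ i) v = v := by
    intro i
    induction i with
    | zero => intro v _; simp
    | succ k ih =>
      intro v hv
      rw [pow_succ B k, Module.End.mul_apply, (hEmem v).1 hv, ih v hv]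
  have hdisj : ∀ v ∈ U, v ∈ E → v = 0 := by
    intro v hvU hvE
    obtain ⟨w, rfl⟩ := (hUmem v).1 hvU
    have h1 : ((∑ i ∈ Finset.range s, B ^ i) * (B - 1)) w = 0 := by
      rw [hT, LinearMap.zero_apply]
    rw [Module.End.mul_apply, LinearMap.sub_apply, Module.End.one_apply,
      LinearMap.sum_apply] at h1
    rw [Finset.sum_congr rfl (fun i _ => hBpow i _ hvE), Finset.sum_const, Finset.card_range,
      ← Nat.cast_smul_eq_nsmul F] at h1
    rcases smul_eq_zero.1 h1 with h | h
    · exact absurd h hsF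
    · exact h
  have hfinU : Module.finrank F U = 2 * m := by
    have h := LinearMap.finrank_range_add_finrank_ker (B - 1)
    rw [hU]
    omega
  have hUpos : 0 < Module.finrank F U := by rw [hfinU]; omega
  obtain ⟨u0, hu0⟩ := Module.finrank_pos_iff_exists_ne_zero.1 hUpos
  obtain ⟨u, huU, hu⟩ : ∃ u : V, u ∈ U ∧ u ≠ 0 :=
    ⟨u0, u0.2, fun h => hu0 (Subtype.ext h)⟩
  obtain ⟨ψ, hψ⟩ : ∃ ψ : F[X] →ₗ[F] V, ∀ g, ψ g = aeval B g u :=
    ⟨(LinearMap.applyₗ u).comp (aeval B).toLinearMap, fun g => rfl⟩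
  obtain ⟨W, hW⟩ : ∃ W : Submodule F V, W = LinearMap.range ψ := ⟨_, rfl⟩
  have hWmem : ∀ v, v ∈ W ↔ ∃ g : F[X], aeval B g u = v := by
    intro v
    rw [hW, LinearMap.mem_range]
    constructor
    · rintro ⟨g, hg⟩
      exact ⟨g, by rw [← hψ, hg]⟩
    · rintro ⟨g, hg⟩
      exact ⟨g, by rw [hψ, hg]⟩
  have hWU : W ≤ U := by
    intro v hv
    obtain ⟨g, rfl⟩ := (hWmem v).1 hv
    exact inv_aeval B U hUB g u huU
  have hWB : ∀ w ∈ W, B w ∈ W := by
    intro w hw
    obtain ⟨g, rfl⟩ := (hWmem w).1 hw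
    exact (hWmem _).2 ⟨X * g, by rw [map_mul, aeval_X, Module.End.mul_apply]⟩
  have huW : u ∈ W := (hWmem u).2 ⟨1, by rw [map_one, Module.End.one_apply]⟩
  have hWE : W ⊓ LinearMap.ker (B - 1) = ⊥ := by
    rw [eq_bot_iff]
    rintro v ⟨hvW, hvE⟩
    rw [Submodule.mem_bot]
    exact hdisj v (hWU hvW) (by rw [hE]; exact hvE)
  have hdvd := Cfsg.Agent.Helper14.PslAdj2.fix_dvd s hsq B hB W hWB
  rw [hWE, finrank_bot, Nat.sub_zero, hl] at hdvd
  have hWpos : 0 < Module.finrank F W := by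
    apply Module.finrank_pos_iff_exists_ne_zero.2
    exact ⟨⟨u, huW⟩, fun h => hu (congrArg Subtype.val h)⟩
  have hWU' : W = U := by
    apply Submodule.eq_of_le_of_finrank_le hWU
    rw [hfinU]
    exact Nat.le_of_dvd hWpos hdvd
  have hAuW : A u ∈ W := by rw [hWU']; exact hUA u huU
  obtain ⟨g, hg⟩ := (hWmem _).1 hAuW
  obtain ⟨G, hG⟩ : ∃ G : Module.End F V, G = aeval B g := ⟨_, rfl⟩
  have hGu : G u = A u := by rw [hG, hg]
  have hAG : ∀ x ∈ U, A x = G x := by
    intro x hx
    rw [← hWU'] at hx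
    obtain ⟨h, rfl⟩ := (hWmem x).1 hx
    have h1 : (A * aeval B h) u = (aeval B h * A) u := by rw [comm_aeval A B hAB h]
    rw [Module.End.mul_apply, Module.End.mul_apply] at h1
    have h2 : aeval B h * aeval B g = aeval B g * aeval B h := by
      rw [← map_mul, ← map_mul, mul_comm]
    have h3 : (aeval B h * aeval B g) u = (aeval B g * aeval B h) u := by rw [h2]
    rw [Module.End.mul_apply, Module.End.mul_apply] at h3
    rw [h1, ← hGu, hG]
    exact h3
  have hGU : ∀ x ∈ U, G x ∈ U := by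
    intro x hx
    rw [← hAG x hx]
    exact hUA x hx
  have hAGpow : ∀ j : ℕ, ∀ x ∈ U, (A ^ j) x = (G ^ j) x := by
    intro j
    induction j with
    | zero => intro x _; simp
    | succ k ih =>
      intro x hx
      rw [pow_succ A k, Module.End.mul_apply, pow_succ G k, Module.End.mul_apply, hAG x hx,
        ih _ (hGU x hx)]
  have hs1 : s - 1 + 1 = s := Nat.sub_add_cancel hsP.one_le
  obtain ⟨B', hB'⟩ : ∃ B' : Module.End F V, B' = B ^ (s - 1) := ⟨_, rfl⟩
  have hBB' : B * B' = 1 := by rw [hB', ← pow_succ', hs1, hB]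
  have hadj : ∀ x y, f x (B y) = f (B' x) y := by
    intro x y
    have h1 : B (B' x) = x := by
      rw [← Module.End.mul_apply, hBB', Module.End.one_apply]
    rw [← hBf (B' x) y, h1]
  have hUE : ∀ z ∈ U, ∀ e ∈ E, f z e = 0 := by
    intro z hz e he
    obtain ⟨w, rfl⟩ := (hUmem z).1 hz
    have he' : B e = e := (hEmem e).1 he
    have h1 : f (B w) e = f w e := by
      have h2 := hBf w e
      rw [he'] at h2
      exact h2
    rw [map_sub, LinearMap.sub_apply, h1, sub_self]
  have hfinE : Module.finrank F E = Module.finrank F ↥(LinearMap.ker (B - 1)) := by rw [hE]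
  have hdisjUE : Disjoint U E := by
    rw [Submodule.disjoint_def]
    intro x hxU hxE
    exact hdisj x hxU hxE
  have hsup : U ⊔ E = ⊤ := by
    refine Submodule.eq_top_of_disjoint U E ?_ hdisjUE
    rw [hfinU, hfinE]
    omega
  obtain ⟨G', hG'⟩ : ∃ G' : Module.End F V, G' = aeval B' g := ⟨_, rfl⟩
  have hUB' : ∀ v ∈ U, B' v ∈ U := by
    intro v hv
    rw [hB']
    exact inv_pow B U hUB (s - 1) v hv
  have hG'U : ∀ x ∈ U, G' x ∈ U := by
    intro x hx
    rw [hG']
    exact inv_aeval B' U hUB' g x hx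
  have hadjG : ∀ x y, f x (G y) = f (G' x) y := by
    intro x y
    rw [hG, hG']
    exact adj_aeval f B B' hadj g x y
  have hkey : G' (G u) = u := by
    have hz : G' (G u) - u = 0 := by
      apply hnd
      intro w
      have hw : w ∈ U ⊔ E := by rw [hsup]; exact Submodule.mem_top
      obtain ⟨y, hy, e, he, rfl⟩ := Submodule.mem_sup.1 hw
      have hzU : G' (G u) - u ∈ U := U.sub_mem (hG'U _ (hGU u huU)) huU
      rw [map_add, hUE _ hzU e he, add_zero, map_sub, LinearMap.sub_apply, ← hadjG,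
        ← hAG u huU, ← hAG y hy, hAf, sub_self]
    exact sub_eq_zero.1 hz
  have hsdvd : s ∣ q ^ m + 1 := by
    have h1 : ((q : ℕ) : ZMod s) ^ (2 * m) = 1 := by
      rw [← hl']
      exact pow_orderOf_eq_one _
    have h2 : ((q : ℕ) : ZMod s) ^ m ≠ 1 := by
      intro h
      have h4 := orderOf_dvd_of_pow_eq_one h
      rw [hl'] at h4
      have h5 := Nat.le_of_dvd hm h4
      omega
    have h3 : (((q : ℕ) : ZMod s) ^ m - 1) * (((q : ℕ) : ZMod s) ^ m + 1) = 0 := by
      have h6 : (((q : ℕ) : ZMod s) ^ m - 1) * (((q : ℕ) : ZMod s) ^ m + 1)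
          = ((q : ℕ) : ZMod s) ^ (2 * m) - 1 := by ring
      rw [h6, h1, sub_self]
    rcases mul_eq_zero.1 h3 with h | h
    · exact absurd (sub_eq_zero.1 h) h2
    · rw [← ZMod.natCast_eq_zero_iff]
      push_cast
      exact h
  have hBqm : B ^ (q ^ m) = B' := by
    obtain ⟨c, hc⟩ := hsdvd
    have h1 : B ^ (q ^ m + 1) = 1 := by rw [hc, pow_mul, hB, one_pow]
    calc B ^ (q ^ m) = B ^ (q ^ m) * (B * B') := by rw [hBB', mul_one]
      _ = B ^ (q ^ m + 1) * B' := by rw [← mul_assoc, ← pow_succ]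
      _ = B' := by rw [h1, one_mul]
  have hfrob1 : ∀ C : Module.End F V, aeval (C ^ q) g = (aeval C g) ^ q := by
    intro C
    rw [← Polynomial.expand_aeval, hq, FiniteField.expand_card, map_pow]
  have hfrob : ∀ j : ℕ, aeval (B ^ (q ^ j)) g = (aeval B g) ^ (q ^ j) := by
    intro j
    induction j with
    | zero => simp
    | succ k ih =>
      have h1 : B ^ (q ^ (k + 1)) = (B ^ (q ^ k)) ^ q := by rw [pow_succ q k, pow_mul]
      rw [h1, hfrob1, ih, ← pow_mul, ← pow_succ]
  have hG'G : G' = G ^ (q ^ m) := by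
    rw [hG', hG, ← hBqm, hfrob m]
  have hAN : (A ^ (q ^ m + 1)) u = u := by
    rw [hAGpow _ u huU, pow_succ, Module.End.mul_apply, ← hG'G]
    exact hkey
  have hcop : Nat.Coprime (q ^ m + 1) r := by
    rw [Nat.coprime_comm]
    exact (Nat.Prime.coprime_iff_not_dvd hrP).2 hcon
  obtain ⟨a, -, ha⟩ := Nat.exists_mul_mod_eq_one_of_coprime hcop hrP.one_lt
  obtain ⟨c, hc⟩ : ∃ c : ℕ, (q ^ m + 1) * a = r * c + 1 := by
    have h1 := Nat.div_add_mod ((q ^ m + 1) * a) r
    rw [ha] at h1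
    exact ⟨_, h1.symm⟩
  have hANa : ∀ j : ℕ, ((A ^ (q ^ m + 1)) ^ j) u = u := by
    intro j
    induction j with
    | zero => simp
    | succ k ih => rw [pow_succ, Module.End.mul_apply, hAN, ih]
  have hAu : A u = u := by
    have h1 := hANa a
    rw [← pow_mul, hc, pow_succ, pow_mul, hA, one_pow, one_mul] at h1
    exact h1
  exact hu (hdisj u huU ((hEA u).2 hAu))

end Cfsg.Agent.Helper16.PSpRS
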