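import Mathlib

set_option autoImplicit false

namespace Cfsg.Agent.Helper16.Psl3x

open Polynomial

/-- A 3 x 3 matrix of determinant 1 over a finite field with irreducible characteristic
polynomial has a scalar power of exponent `(q^2 + q + 1) / gcd(3, q - 1)`. -/
theorem case_irred {F : Type*} [Field F] [Fintype F] (M : Matrix (Fin 3) (Fin 3) F)
    (hdet : M.det = 1) (hirr : Irreducible M.charpoly) :
    ∃ c : F, M ^ ((Fintype.card F ^ 2 + Fintype.card F + 1) / Nat.gcd 3 (Fintype.card F - 1))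
      = c • (1 : Matrix (Fin 3) (Fin 3) F) := by
  classical
  obtain ⟨χ, hχ⟩ : ∃ χ : Polynomial F, χ = M.charpoly := ⟨_, rfl⟩
  obtain ⟨q, hq⟩ : ∃ q : ℕ, q = Fintype.card F := ⟨_, rfl⟩
  rw [← hq]
  have hq2 : 2 ≤ q := by
    rw [hq]
    exact Fintype.one_lt_card
  have hmon : χ.Monic := by
    rw [hχ]
    exact M.charpoly_monic
  have hdeg : χ.natDegree = 3 := by
    rw [hχ, Matrix.charpoly_natDegree_eq_dim, Fintype.card_fin]
  have hχ0 : χ ≠ 0 := hmon.ne_zero
  haveI : Fact (Irreducible χ) := ⟨by rw [hχ]; exact hirr⟩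
  have hc0 : χ.coeff 0 = -1 := by
    have h := Matrix.det_eq_sign_charpoly_coeff M
    rw [hdet, Fintype.card_fin, ← hχ] at h
    linear_combination h
  have hfr : Module.finrank F (AdjoinRoot χ) = 3 := by
    rw [(AdjoinRoot.powerBasis hχ0).finrank, AdjoinRoot.powerBasis_dim, hdeg]
  haveI : Module.Finite F (AdjoinRoot χ) := (AdjoinRoot.powerBasis hχ0).finite
  haveI : Finite (AdjoinRoot χ) := Module.finite_of_finite F
  have hcardK : Nat.card (AdjoinRoot χ) = q ^ 3 := by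
    rw [Module.natCard_eq_pow_finrank (K := F) (V := AdjoinRoot χ), hfr,
      Nat.card_eq_fintype_card, hq]
  have hnorm : Algebra.norm F (AdjoinRoot.root χ) = 1 := by
    have h := Algebra.PowerBasis.norm_gen_eq_coeff_zero_minpoly (AdjoinRoot.powerBasis hχ0)
    rw [AdjoinRoot.minpoly_powerBasis_gen_of_monic hmon hχ0, AdjoinRoot.powerBasis_dim, hdeg,
      hc0, AdjoinRoot.powerBasis_gen] at h
    rw [h]
    ring
  have hN : q ^ 3 - 1 = (q - 1) * (q ^ 2 + q + 1) := by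
    obtain ⟨t, rfl⟩ : ∃ t, q = t + 1 := ⟨q - 1, by omega⟩
    have h : (t + 1) ^ 3 = t * ((t + 1) ^ 2 + (t + 1) + 1) + 1 := by ring
    rw [h, Nat.add_sub_cancel, Nat.add_sub_cancel]
  have hpow : (AdjoinRoot.root χ) ^ (q ^ 2 + q + 1) = 1 := by
    have h := FiniteField.algebraMap_norm_eq_pow (K := F) (K' := AdjoinRoot χ)
      (x := AdjoinRoot.root χ)
    rw [hnorm, map_one, hcardK, Nat.card_eq_fintype_card, ← hq, hN,
      Nat.mul_div_cancel_left _ (by omega : 0 < q - 1)] at h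
    exact h.symm
  obtain ⟨d, hd⟩ : ∃ d : ℕ, d = Nat.gcd 3 (q - 1) := ⟨_, rfl⟩
  rw [← hd]
  have hd3 : d ∣ 3 := by
    rw [hd]
    exact Nat.gcd_dvd_left 3 (q - 1)
  have hdq : d ∣ q - 1 := by
    rw [hd]
    exact Nat.gcd_dvd_right 3 (q - 1)
  have hkey : ∃ c : F, (AdjoinRoot.root χ) ^ ((q ^ 2 + q + 1) / d)
      = algebraMap F (AdjoinRoot χ) c := by
    rcases (Nat.dvd_prime Nat.prime_three).1 hd3 with h1 | h3
    · refine ⟨1, ?_⟩
      rw [h1, Nat.div_one, hpow, map_one]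
    · have h3q : 3 ∣ q - 1 := by
        rw [← h3]
        exact hdq
      have h3N : 3 ∣ q ^ 2 + q + 1 := by
        obtain ⟨t, ht⟩ := h3q
        have hqt : q = 3 * t + 1 := by omega
        rw [hqt]
        exact ⟨3 * t ^ 2 + 3 * t + 1, by ring⟩
      obtain ⟨e, he⟩ := h3N
      rw [h3, he, Nat.mul_div_cancel_left _ (by norm_num : 0 < 3)]
      obtain ⟨ζ, hζ⟩ : ∃ ζ : AdjoinRoot χ, ζ = (AdjoinRoot.root χ) ^ e := ⟨_, rfl⟩
      rw [← hζ]
      have hζ3 : ζ ^ 3 = 1 := by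
        rw [hζ, ← pow_mul, mul_comm, ← he, hpow]
      haveI : Fact (Nat.Prime 3) := ⟨Nat.prime_three⟩
      have hcu : 3 ∣ Fintype.card Fˣ := by
        rw [← Nat.card_eq_fintype_card, Nat.card_units, Nat.card_eq_fintype_card, ← hq]
        exact h3q
      obtain ⟨w, hw⟩ := exists_prime_orderOf_dvd_card 3 hcu
      have hw3 : ((w : Fˣ) : F) ^ 3 = 1 := by
        have h := pow_orderOf_eq_one w
        rw [hw] at h
        have h2 := congrArg (fun u : Fˣ => (u : F)) h
        simpa using h2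
      have hw1 : ((w : Fˣ) : F) ≠ 1 := by
        intro h
        have hw' : w = 1 := Units.ext (by simpa using h)
        rw [hw', orderOf_one] at hw
        omega
      obtain ⟨ω, hω⟩ : ∃ ω : F, ω = ((w : Fˣ) : F) := ⟨_, rfl⟩
      rw [← hω] at hw3 hw1
      have hω2 : ω ^ 2 + ω + 1 = 0 := by
        have h : (ω - 1) * (ω ^ 2 + ω + 1) = 0 := by
          have h' : (ω - 1) * (ω ^ 2 + ω + 1) = ω ^ 3 - 1 := by ring
          rw [h', hw3, sub_self]
        rcases mul_eq_zero.1 h with h | h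
        · exact absurd (sub_eq_zero.1 h) hw1
        · exact h
      obtain ⟨a, ha⟩ : ∃ a : AdjoinRoot χ, a = algebraMap F (AdjoinRoot χ) ω := ⟨_, rfl⟩
      have ha2 : a ^ 2 + a + 1 = 0 := by
        have h := congrArg (algebraMap F (AdjoinRoot χ)) hω2
        rw [map_add, map_add, map_pow, map_one, map_zero, ← ha] at h
        exact h
      have ha3 : a ^ 3 = 1 := by
        have h' : a ^ 3 - 1 = (a - 1) * (a ^ 2 + a + 1) := by ring
        have h2 : a ^ 3 - 1 = 0 := by rw [h', ha2, mul_zero]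
        exact sub_eq_zero.1 h2
      have hfac : (ζ - 1) * (ζ - a) * (ζ - a ^ 2) = 0 := by
        have h' : (ζ - 1) * (ζ - a) * (ζ - a ^ 2)
            = ζ ^ 3 - (a ^ 2 + a + 1) * ζ ^ 2 + (a ^ 2 + a + 1) * ζ + (a ^ 3 - 1) * ζ - a ^ 3 := by
          ring
        rw [h', ha2, ha3, hζ3]
        ring
      rcases mul_eq_zero.1 hfac with h | h
      · rcases mul_eq_zero.1 h with h | h
        · exact ⟨1, by rw [map_one]; exact sub_eq_zero.1 h⟩
        · exact ⟨ω, by rw [← ha]; exact sub_eq_zero.1 h⟩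
      · exact ⟨ω ^ 2, by rw [map_pow, ← ha]; exact sub_eq_zero.1 h⟩
  obtain ⟨c, hc⟩ := hkey
  refine ⟨c, ?_⟩
  have hdvd : χ ∣ X ^ ((q ^ 2 + q + 1) / d) - C c := by
    rw [← AdjoinRoot.mk_eq_zero, map_sub, map_pow, AdjoinRoot.mk_X, AdjoinRoot.mk_C, hc,
      AdjoinRoot.algebraMap_eq, sub_self]
  obtain ⟨g, hg⟩ := hdvd
  have h1 := congrArg (Polynomial.aeval M) hg
  rw [map_mul, hχ, Matrix.aeval_self_charpoly, zero_mul, map_sub, map_pow, Polynomial.aeval_X,
    Polynomial.aeval_C, Algebra.algebraMap_eq_smul_one] at h1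
  exact sub_eq_zero.1 h1

end Cfsg.Agent.Helper16.Psl3x
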