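import Mathlib

set_option autoImplicit false

namespace Cfsg.Agent.Helper16

/-- Transfer of an element of `H` whose conjugate-powers landing in `H` are controlled by `ϕ`. -/
theorem transfer_eq_pow_of_conj_pow {G A : Type*} [Group G] [CommGroup A] (H : Subgroup G)
    [H.FiniteIndex] (ϕ : H →* A) (g : G) (hg : g ∈ H)
    (key : ∀ (k : ℕ) (g₀ : G) (hk : g₀⁻¹ * g ^ k * g₀ ∈ H),
      ϕ ⟨g₀⁻¹ * g ^ k * g₀, hk⟩ = ϕ ⟨g, hg⟩ ^ k) :
    MonoidHom.transfer ϕ g = ϕ ⟨g, hg⟩ ^ H.index := by
  classical
  have : Fintype (Quotient (MulAction.orbitRel (Subgroup.zpowers g) (G ⧸ H))) :=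
    Fintype.ofFinite _
  rw [Subgroup.index_eq_sum_minimalPeriod H g, ← Finset.prod_pow_eq_pow_sum,
    MonoidHom.transfer_eq_prod_quotient_orbitRel_zpowers_quot]
  apply Finset.prod_congr rfl
  intro q _
  exact key _ _ _

/-- The sign homomorphism attached to a subgroup of index two. -/
noncomputable def signOfIndexTwo {H : Type*} [Group H] (K : Subgroup H) (hK : K.index = 2) :
    H →* ℤˣ where
  toFun x := by classical exact if x ∈ K then 1 else -1
  map_one' := by simp [K.one_mem]
  map_mul' a b := by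
    classical
    have := Subgroup.mul_mem_iff_of_index_two hK (a := a) (b := b)
    by_cases ha : a ∈ K <;> by_cases hb : b ∈ K <;> simp [ha, hb, this]

theorem signOfIndexTwo_of_mem {H : Type*} [Group H] (K : Subgroup H) (hK : K.index = 2) {x : H}
    (hx : x ∈ K) : signOfIndexTwo K hK x = 1 := by
  classical
  simp [signOfIndexTwo, hx]

theorem signOfIndexTwo_of_not_mem {H : Type*} [Group H] (K : Subgroup H) (hK : K.index = 2)
    {x : H} (hx : x ∉ K) : signOfIndexTwo K hK x = -1 := by
  classical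
  simp [signOfIndexTwo, hx]

/-- A homomorphism to `ℤˣ` taking the value `-1` has kernel of index two. -/
theorem index_ker_eq_two_of_apply_eq_neg_one {G : Type*} [Group G] (f : G →* ℤˣ) {x : G}
    (hx : f x = -1) : f.ker.index = 2 := by
  rw [Subgroup.index_eq_two_iff]
  refine ⟨x, fun b => ?_⟩
  rw [MonoidHom.mem_ker, MonoidHom.mem_ker, map_mul, hx]
  rcases Int.units_eq_one_or (f b) with h | h
  · rw [h]; simp [Xor]
  · rw [h]; simp [Xor]

end Cfsg.Agent.Helper16
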